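import Groth.Agent.Et18.Fppf.APull
import Groth.Agent.Et18.IntegralCover
import Groth.Agent.SiteCoh.SheafTools
import Groth.Agent.FlatMor12.EtaleSlice

/-!
# Local lifts of sections on the big fppf site
-/

set_option autoImplicit false
set_option backward.isDefEq.respectTransparency.types false
set_option backward.isDefEq.respectTransparency false
set_option linter.all false

universe u

open CategoryTheory CategoryTheory.Limits AlgebraicGeometry Opposite

namespace Groth.Agent.Desc19b.FppfEt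

open Groth.Agent.Et18.Fppf (ext_of_etale glue_of_etale)

variable {X : Scheme.{u}}

/-- Sections. -/
noncomputable abbrev Sec (A : EtFppf.AbF X) (T : Over X) : AddCommGrpCat.{u + 1} := A.obj.obj (op T)

/-- The map on sections. -/
noncomputable abbrev ap {A B : EtFppf.AbF X} (φ : A ⟶ B) (T : Over X) (x : Sec A T) : Sec B T :=
  φ.hom.app (op T) x

/-- Restriction of sections. -/
noncomputable abbrev rs (A : EtFppf.AbF X) {R T : Over X} (q : R ⟶ T) (x : Sec A T) : Sec A R :=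
  A.obj.map q.op x

theorem rs_rs (A : EtFppf.AbF X) {P R T : Over X} (p : P ⟶ R) (q : R ⟶ T) (x : Sec A T) :
    rs A p (rs A q x) = rs A (p ≫ q) x := by
  simp only [rs, op_comp, Functor.map_comp]
  rfl

theorem ap_rs {A B : EtFppf.AbF X} (φ : A ⟶ B) {R T : Over X} (q : R ⟶ T) (x : Sec A T) :
    ap φ R (rs A q x) = rs B q (ap φ T x) :=
  ConcreteCategory.congr_hom (φ.hom.naturality q.op) x

theorem ap_comp {A B C : EtFppf.AbF X} (φ : A ⟶ B) (ψ : B ⟶ C) (T : Over X) (x : Sec A T) :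
    ap (φ ≫ ψ) T x = ap ψ T (ap φ T x) := rfl

theorem mem_J_of_fppf {W : Over X} {κ : Type (u + 1)} (R : κ → Over X) (a : ∀ k, R k ⟶ W)
    (hf : ∀ k, Flat (a k).left) (hp : ∀ k, LocallyOfFinitePresentation (a k).left)
    (hcov : ∀ y : W.left, ∃ k, y ∈ Set.range (a k).left) :
    Sieve.ofArrows R a ∈ EtFppf.J X W := by
  rw [GrothendieckTopology.mem_over_iff]
  refine Scheme.fppfTopology.superset_covering ?_ (Precoverage.generate_mem_toGrothendieck
    ((Scheme.ofArrows_mem_precoverage_iff (@Flat ⊓ @LocallyOfFinitePresentation)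
      (f := fun k => (a k).left)).2 ⟨hcov, fun k => ⟨hf k, hp k⟩⟩))
  rw [Sieve.generate_le_iff]
  rintro Z f ⟨k⟩
  refine (Sieve.overEquiv_iff _ (a k).left).2 ⟨R k, Over.homMk (𝟙 _) ?_, a k, Presieve.ofArrows.mk k, ?_⟩
  · exact (Category.id_comp _).trans (Over.w (a k)).symm
  · exact Over.OverMorphism.ext (Category.id_comp _)

theorem ext_of_fppf (H : EtFppf.AbF X) {W : Over X} {κ : Type (u + 1)} (R : κ → Over X) (a : ∀ k, R k ⟶ W)
    (hf : ∀ k, Flat (a k).left) (hp : ∀ k, LocallyOfFinitePresentation (a k).left)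
    (hcov : ∀ y : W.left, ∃ k, y ∈ Set.range (a k).left)
    (s s' : Sec H W) (h : ∀ k, rs H (a k) s = rs H (a k) s') : s = s' := by
  have hH : Presieve.IsSheaf (EtFppf.J X) (H.obj ⋙ forget AddCommGrpCat.{u + 1}) :=
    (CategoryTheory.isSheaf_iff_isSheaf_of_type _ _).1
      ((sheafCompose (EtFppf.J X) (forget AddCommGrpCat.{u + 1})).obj H).property
  refine (hH _ (mem_J_of_fppf R a hf hp hcov)).isSeparatedFor.ext fun Z g hg => ?_
  obtain ⟨_, k, _, ⟨i⟩, rfl⟩ := hg
  change rs H (k ≫ a i) s = rs H (k ≫ a i) s'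
  rw [← rs_rs, ← rs_rs, h i]

/-- A section lifts fppf locally. -/
def FppfLift {A B : EtFppf.AbF X} (φ : A ⟶ B) {T : Over X} (x : Sec B T) : Prop :=
  ∀ t : T.left, ∃ (R : Over X) (q : R ⟶ T), Flat q.left ∧ LocallyOfFinitePresentation q.left ∧
    t ∈ Set.range q.left ∧ ∃ y : Sec A R, ap φ R y = rs B q x

/-- A section lifts étale locally. -/
def EtLift {A B : EtFppf.AbF X} (φ : A ⟶ B) {T : Over X} (x : Sec B T) : Prop :=
  ∀ t : T.left, ∃ (R : Over X) (q : R ⟶ T), Etale q.left ∧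
    t ∈ Set.range q.left ∧ ∃ y : Sec A R, ap φ R y = rs B q x

theorem EtLift.fppfLift {A B : EtFppf.AbF X} {φ : A ⟶ B} {T : Over X} {x : Sec B T} (h : EtLift φ x) :
    FppfLift φ x := fun t => by
  obtain ⟨R, q, hq, ht, hy⟩ := h t
  exact ⟨R, q, inferInstance, inferInstance, ht, hy⟩

/-- Exactness at a spot, in sections up to fppf coverings. -/
def FppfExactAt {A B C : EtFppf.AbF X} (φ : A ⟶ B) (ψ : B ⟶ C) : Prop :=
  ∀ (T : Over X) (x : Sec B T), ap ψ T x = 0 → FppfLift φ x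

/-- Exactness at a spot, in sections up to étale coverings. -/
def EtExactAt {A B C : EtFppf.AbF X} (φ : A ⟶ B) (ψ : B ⟶ C) : Prop :=
  ∀ (T : Over X) (x : Sec B T), ap ψ T x = 0 → EtLift φ x

theorem fppfLift_of_mem {A B : EtFppf.AbF X} {φ : A ⟶ B} {T : Over X} {x : Sec B T}
    {S : Sieve T} (hS : S ∈ EtFppf.J X T)
    (h : ∀ ⦃V : Over X⦄ (f : V ⟶ T), S.arrows f → ∃ y : Sec A V, ap φ V y = rs B f x) : FppfLift φ x := by
  intro t
  rw [GrothendieckTopology.mem_over_iff] at hS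
  have : Scheme.fppfPrecoverage.{u}.HasIsos := ⟨fun f hf => by
    have : IsIso f := hf
    exact f.singleton_mem_fppfPrecoverage⟩
  rw [Precoverage.mem_toGrothendieck_iff_of_isStableUnderComposition] at hS
  obtain ⟨R, hR, hle⟩ := hS
  obtain ⟨ι, Y, g, rfl⟩ := Presieve.exists_eq_ofArrows R
  obtain ⟨hsurj, hP⟩ := (Scheme.ofArrows_mem_precoverage_iff (@Flat ⊓ @LocallyOfFinitePresentation)).1 hR
  obtain ⟨i, z, hz⟩ := hsurj t
  let a : Over.mk (g i ≫ T.hom) ⟶ T := Over.homMk (g i)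
  exact ⟨_, a, (hP i).1, (hP i).2, ⟨z, hz⟩,
    h a ((Sieve.overEquiv_iff S (g i)).1 (hle _ _ (Presieve.ofArrows.mk i)))⟩

theorem fppfExactAt_of_exact {S : ShortComplex (EtFppf.AbF X)} (hS : S.Exact) : FppfExactAt S.f S.g := by
  intro T x hx
  haveI := hS.epi_toCycles
  let F := (sheafSections (EtFppf.J X) AddCommGrpCat.{u + 1}).obj (op T)
  haveI : PreservesFiniteLimits F :=
    inferInstanceAs (PreservesFiniteLimits (sheafToPresheaf (EtFppf.J X) AddCommGrpCat.{u + 1} ⋙
      (evaluation (Over X)ᵒᵖ AddCommGrpCat.{u + 1}).obj (op T)))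
  haveI : F.PreservesZeroMorphisms := ⟨fun _ _ => rfl⟩
  obtain ⟨z, hz⟩ : ∃ z : Sec S.cycles T, ap S.iCycles T z = x := by
    let S' := (ShortComplex.mk S.iCycles S.g S.iCycles_g).map F
    have h : S'.Exact := ((ShortComplex.exact_and_mono_f_iff_f_is_kernel S').2
      ⟨KernelFork.mapIsLimit _ S.cyclesIsKernel F⟩).1
    exact (ShortComplex.ab_exact_iff S').1 h x hx
  haveI : Sheaf.IsLocallySurjective S.toCycles :=
    (Sheaf.isLocallySurjective_iff_epi' (A := AddCommGrpCat.{u + 1}) S.toCycles).2 inferInstance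
  have hR := Presheaf.imageSieve_mem (EtFppf.J X) S.toCycles.hom z
  have hl' : ∀ ⦃V : Over X⦄ (f : V ⟶ T), (Presheaf.imageSieve S.toCycles.hom z).arrows f →
      ∃ y : Sec S.X₁ V, ap S.toCycles V y = rs S.cycles f z := fun V f hf => hf
  refine fppfLift_of_mem hR fun V f hf => ?_
  obtain ⟨y, hy⟩ := hl' f hf
  refine ⟨y, ?_⟩
  rw [← hz, ← ap_rs, ← show S.toCycles ≫ S.iCycles = S.f from S.toCycles_i, ap_comp]
  exact congrArg (ap S.iCycles V) hy

theorem rs_add (A : EtFppf.AbF X) {R T : Over X} (q : R ⟶ T) (x y : Sec A T) :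
    rs A q (x + y) = rs A q x + rs A q y := map_add _ _ _

theorem EtLift.trans {A B : EtFppf.AbF X} {φ : A ⟶ B} {T : Over X} {x : Sec B T}
    (h : ∀ t : T.left, ∃ (R : Over X) (q : R ⟶ T), Etale q.left ∧ t ∈ Set.range q.left ∧ EtLift φ (rs B q x)) :
    EtLift φ x := fun t => by
  obtain ⟨R, q, hq, ⟨r, rfl⟩, hl⟩ := h t
  obtain ⟨P, p, hp, ⟨w, rfl⟩, y, hy⟩ := hl r
  have : Etale (p.left ≫ q.left) := inferInstance
  exact ⟨P, p ≫ q, this, ⟨w, rfl⟩, y, hy.trans (rs_rs B p q x)⟩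

theorem FppfLift.trans {A B : EtFppf.AbF X} {φ : A ⟶ B} {T : Over X} {x : Sec B T}
    (h : ∀ t : T.left, ∃ (R : Over X) (q : R ⟶ T), Flat q.left ∧ LocallyOfFinitePresentation q.left ∧
      t ∈ Set.range q.left ∧ FppfLift φ (rs B q x)) : FppfLift φ x := fun t => by
  obtain ⟨R, q, hq, hq', ⟨r, rfl⟩, hl⟩ := h t
  obtain ⟨P, p, hp, hp', ⟨w, rfl⟩, y, hy⟩ := hl r
  have : Flat (p.left ≫ q.left) := inferInstance
  have : LocallyOfFinitePresentation (p.left ≫ q.left) := inferInstance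
  exact ⟨P, p ≫ q, ‹Flat _›, ‹LocallyOfFinitePresentation _›, ⟨w, rfl⟩, y, hy.trans (rs_rs B p q x)⟩

theorem subsingleton_sec_of_isEmpty (A : EtFppf.AbF X) (P : Over X) [IsEmpty P.left] : Subsingleton (Sec A P) :=
  ⟨fun s s' => ext_of_etale A (W := P) (fun k : PEmpty.{u + 2} => P) (fun k => k.elim) (fun k => k.elim)
    (fun y => (IsEmpty.false y).elim) s s' fun k => k.elim⟩

/-- Lifts on a finite scheme over a scheme descend to lifts étale locally on it. -/
theorem exists_lift_of_finite' {A B : EtFppf.AbF X} (φ : A ⟶ B) {W : Over X} {T₀ : Scheme.{u}} (h : W.left ⟶ T₀)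
    [IsIntegralHom h] {x : Sec B W} (hx : EtLift φ x) (t : T₀) :
    ∃ (R₀ : Scheme.{u}) (q : R₀ ⟶ T₀), Etale q ∧ t ∈ Set.range q ∧
      ∃ (P : Over X) (r : P ⟶ W) (l : P.left ⟶ R₀), IsPullback r.left l h q ∧
        ∃ y : Sec A P, ap φ P y = rs B r x := by
  choose U g hge hgw y hy using hx
  haveI : ∀ w, Etale (g w).left := hge
  obtain ⟨V', p, hp, ⟨v, hv⟩, hsplit⟩ := Et18.exists_cover_lift h (fun w => (U w).left) (fun w => (g w).left)
    (fun w => ⟨w, hgw w⟩) t
  let P : Over X := Over.mk (pullback.fst h p ≫ W.hom)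
  let r : P ⟶ W := Over.homMk (pullback.fst h p)
  have sq : IsPullback r.left (pullback.snd h p) h p := IsPullback.of_hasPullback h p
  obtain ⟨μ, O, hdisj, hsup, hO⟩ := hsplit (pullback.fst h p) (pullback.snd h p) sq
  refine ⟨V', p, hp, ⟨v, hv⟩, P, r, pullback.snd h p, sq, ?_⟩
  choose i k hk using hO
  let Q : μ → Over X := fun a => Over.mk ((O a).ι ≫ P.hom)
  let c : ∀ a, Q a ⟶ P := fun a => Over.homMk (O a).ι
  let m : ∀ a, Q a ⟶ U (i a) := fun a => Over.homMk (k a) (by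
    change k a ≫ (U (i a)).hom = (O a).ι ≫ pullback.fst h p ≫ W.hom
    rw [← Over.w (g (i a)), ← Category.assoc, hk a, Category.assoc])
  have hm : ∀ a, m a ≫ g (i a) = c a ≫ r := fun a => Over.OverMorphism.ext (hk a)
  have hz : ∀ a, ap φ (Q a) (rs A (m a) (y (i a))) = rs B (c a) (rs B r x) := fun a => by
    rw [ap_rs, hy, rs_rs, rs_rs, hm]
  have hcov : ∀ z : P.left, ∃ a : ULift.{u + 1} μ, z ∈ Set.range (c a.down).left := fun z => by
    have : z ∈ ⨆ a, O a := hsup ▸ trivial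
    obtain ⟨a, ha⟩ := TopologicalSpace.Opens.mem_iSup.1 this
    exact ⟨⟨a⟩, ⟨z, ha⟩, rfl⟩
  have hc : ∀ a : ULift.{u + 1} μ, Etale (c a.down).left := fun a => inferInstanceAs (Etale (O a.down).ι)
  obtain ⟨s, hs⟩ := glue_of_etale A (fun a : ULift.{u + 1} μ => Q a.down) (fun a => c a.down) hc hcov
    (fun a => rs A (m a.down) (y (i a.down))) fun a b Z ga gb hab => by
      by_cases hab' : a = b
      · subst hab'
        have : Mono (c a.down).left := inferInstanceAs (Mono (O a.down).ι)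
        rw [show ga = gb from Over.OverMorphism.ext ((cancel_mono (c a.down).left).1
          (congrArg (fun e => e.left) hab))]
      · have hne : a.down ≠ b.down := fun e => hab' (ULift.ext _ _ e)
        haveI : IsEmpty Z.left := ⟨fun z => by
          refine Set.disjoint_left.1 (TopologicalSpace.Opens.coe_disjoint.2 (hdisj _ _ hne)) (ga.left z).2 ?_
          have e : (c a.down).left (ga.left z) = (c b.down).left (gb.left z) :=
            congrArg (fun e => e.left z) hab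
          show (ga.left z).1 ∈ O b.down
          rw [show (ga.left z).1 = (gb.left z).1 from e]
          exact (gb.left z).2⟩
        exact (subsingleton_sec_of_isEmpty A Z).elim _ _
  refine ⟨s, ext_of_etale B (fun a : ULift.{u + 1} μ => Q a.down) (fun a => c a.down) hc hcov _ _ fun a => ?_⟩
  change rs B (c a.down) (ap φ P s) = rs B (c a.down) (rs B r x)
  rw [← ap_rs, show rs A (c a.down) s = rs A (m a.down) (y (i a.down)) from hs a, hz]

/-- Lifts on a finite scheme over `T` descend to lifts étale locally on `T`. -/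
theorem exists_lift_of_finite {A B : EtFppf.AbF X} (φ : A ⟶ B) {W T : Over X} (h : W ⟶ T) [IsIntegralHom h.left]
    {x : Sec B W} (hx : EtLift φ x) (t : T.left) :
    ∃ (R : Over X) (q : R ⟶ T), Etale q.left ∧ t ∈ Set.range q.left ∧
      ∃ (P : Over X) (r : P ⟶ W) (l : P ⟶ R), IsPullback r.left l.left h.left q.left ∧ r ≫ h = l ≫ q ∧
        ∃ y : Sec A P, ap φ P y = rs B r x := by
  obtain ⟨R₀, q, hq, ht, P, r, l, sq, y, hy⟩ := exists_lift_of_finite' φ h.left hx t
  refine ⟨Over.mk (q ≫ T.hom), Over.homMk q, hq, ht, P, r, Over.homMk l ?_, sq, Over.OverMorphism.ext sq.w, y, hy⟩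
  change l ≫ q ≫ T.hom = P.hom
  rw [← Category.assoc, ← sq.w, Category.assoc, Over.w h]
  exact Over.w r

end Groth.Agent.Desc19b.FppfEt
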