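import Groth.Agent.Desc19b.FppfEt.Induction
import Groth.Agent.Et18.PropAFaithful
import Groth.Agent.Et18.FinitePush
import Groth.Agent.EtCmp.AdjExt
import Groth.Agent.EtZarCmp.Cohom

/-!
# Étale and fppf cohomology of étale sheaves agree
-/

set_option autoImplicit false
set_option backward.isDefEq.respectTransparency.types false
set_option backward.isDefEq.respectTransparency false
set_option linter.style.haveILetI false
set_option linter.all false
set_option synthInstance.maxHeartbeats 200000

universe u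

open CategoryTheory CategoryTheory.Limits CategoryTheory.Abelian AlgebraicGeometry Opposite

namespace Groth.Agent.Desc19b.FppfEt

variable {X Y : Scheme.{u}}

theorem exactUpTo_resolution {M : EtFppf.AbF X} (I : InjectiveResolution M) (q : ℕ) :
    ExactUpTo I.cocomplex q := fun j _ =>
  fppfExactAt_of_exact (S := ShortComplex.mk _ _ (I.cocomplex.d_comp_d j (j + 1) (j + 2))) (I.exact_succ j)

theorem isEt_kernel_resolution {M : EtFppf.AbF X} (I : InjectiveResolution M) (h : IsEt M) :
    IsEt (kernel (I.cocomplex.d 0 1)) :=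
  h.of_iso (I.isLimitKernelFork.conePointUniqueUpToIso (limit.isLimit _))

theorem etExactAt_resolution {M : EtFppf.AbF X} (I : InjectiveResolution M) (h : IsEt M) (j : ℕ) :
    EtExactAt (I.cocomplex.d j (j + 1)) (I.cocomplex.d (j + 1) (j + 2)) :=
  kills j X I.cocomplex I.injective (isEt_kernel_resolution I h) (exactUpTo_resolution I (j + 1))

theorem isZero_rightDerived_of_exact {A B : Type*} [Category A] [Category B] [Abelian A] [Abelian B]
    [HasInjectiveResolutions A] (F : A ⥤ B) [F.Additive] {M : A} (I : InjectiveResolution M) (j : ℕ)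
    (h : ((ShortComplex.mk _ _ (I.cocomplex.d_comp_d j (j + 1) (j + 2))).map F).Exact) :
    IsZero ((F.rightDerived (j + 1)).obj M) := by
  refine IsZero.of_iso ?_ (I.isoRightDerivedObj F (j + 1))
  rw [HomologicalComplex.homologyFunctor_obj, ← HomologicalComplex.exactAt_iff_isZero_homology,
    HomologicalComplex.exactAt_iff' _ j (j + 1) (j + 2) (by simp) (by simp)]
  exact h

theorem etCycles_injective (S : ShortComplex (EtCoh.Ab X)) (U : X.Etale) :
    Function.Injective (S.iCycles.hom.app (op U)) := by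
  haveI : Mono S.iCycles.hom := inferInstanceAs (Mono ((sheafToPresheaf _ _).map S.iCycles))
  exact (AddCommGrpCat.mono_iff_injective _).1 (inferInstanceAs (Mono (S.iCycles.hom.app (op U))))

/-- Exactness on the small site from local lifts. -/
theorem exact_of_local (S : ShortComplex (EtCoh.Ab X))
    (h : ∀ (U : X.Etale) (x : S.X₂.obj.obj (op U)), S.g.hom.app (op U) x = 0 →
      ∀ t : U.left, ∃ (U' : X.Etale) (g : U' ⟶ U) (w : U'.left), g.left w = t ∧
        ∃ y : S.X₁.obj.obj (op U'), S.f.hom.app (op U') y = S.X₂.obj.map g.op x) : S.Exact := by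
  rw [ShortComplex.exact_iff_epi_toCycles]
  haveI : Sheaf.IsLocallySurjective S.toCycles := ⟨fun {U} z => by
    refine Et18.mem_smallEtaleTopology_of_points _ fun t => ?_
    have hz : S.g.hom.app (op U) (S.iCycles.hom.app (op U) z) = 0 :=
      ConcreteCategory.congr_hom (congrArg (fun k => k.hom.app (op U)) S.iCycles_g) z
    obtain ⟨U', g, w, hw, y, hy⟩ := h U _ hz t
    refine ⟨U', g, w, ⟨y, etCycles_injective S U' ?_⟩, Et18.etale_map_left g, hw⟩
    refine (ConcreteCategory.congr_hom (congrArg (fun k => k.hom.app (op U')) S.toCycles_i) y).trans ?_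
    exact hy.trans (ConcreteCategory.congr_hom (S.iCycles.hom.naturality g.op) z).symm⟩
  exact Sheaf.epi_of_isLocallySurjective _

/-- Restriction of the inverse image to the small site is acyclic. -/
theorem isZero_RaPush (F : EtCoh.Ab X) (q : ℕ) (hq : 0 < q) :
    IsZero ((EtFppf.RaPush X q).obj ((EtFppf.aPull X).obj F)) := by
  obtain ⟨j, rfl⟩ : ∃ j, q = j + 1 := ⟨q - 1, by omega⟩
  let I := injectiveResolution ((EtFppf.aPull X).obj F)
  refine isZero_rightDerived_of_exact (EtFppf.aPush X) I j (exact_of_local _ fun U x hx t => ?_)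
  obtain ⟨R, g, hg, ⟨w, hw⟩, y, hy⟩ := etExactAt_resolution I ⟨F, ⟨Iso.refl _⟩⟩ j ((EtFppf.a X).obj U) x hx t
  haveI : Etale U.hom := U.prop
  haveI : Etale (g.left ≫ U.hom) := inferInstance
  let U' : X.Etale := Scheme.Etale.mk (g.left ≫ U.hom)
  let g' : U' ⟶ U := MorphismProperty.Over.homMk g.left rfl
  let c : (EtFppf.a X).obj U' ⟶ R := Over.homMk (𝟙 R.left) ((Category.id_comp _).trans (Over.w g).symm)
  have hc : c ≫ g = (EtFppf.a X).map g' := Over.OverMorphism.ext (Category.id_comp _)
  refine ⟨U', g', w, hw, rs (I.cocomplex.X j) c y, ?_⟩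
  change ap (I.cocomplex.d j (j + 1)) _ (rs _ c y) = rs (I.cocomplex.X (j + 1)) ((EtFppf.a X).map g') x
  rw [← hc, ap_rs, hy, rs_rs]

/-- Higher direct images along finite morphisms vanish on inverse images. -/
theorem isZero_RpushBig_of_isFinite (f : X ⟶ Y) [IsFinite f] (F : EtCoh.Ab X) (q : ℕ) (hq : 0 < q) :
    IsZero ((EtFppf.RpushBig f q).obj ((EtFppf.aPull X).obj F)) := by
  obtain ⟨j, rfl⟩ : ∃ j, q = j + 1 := ⟨q - 1, by omega⟩
  let I := injectiveResolution ((EtFppf.aPull X).obj F)
  refine isZero_rightDerived_of_exact (EtFppf.pushBig f) I j ?_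
  rw [ShortComplex.exact_iff_epi_toCycles]
  refine epi_of_fppfLift _ fun T z => ?_
  let S := (ShortComplex.mk _ _ (I.cocomplex.d_comp_d j (j + 1) (j + 2))).map (EtFppf.pushBig f)
  have hz : ap (I.cocomplex.d (j + 1) (j + 2)) ((Over.pullback f).obj T) (ap S.iCycles T z) = 0 := by
    change ap S.g T (ap S.iCycles T z) = 0
    rw [← ap_comp, S.iCycles_g]
    rfl
  intro t
  haveI : IsFinite (pullback.fst T.hom f) := MorphismProperty.pullback_fst _ _ inferInstance
  obtain ⟨R₀, p, hp, ⟨v, hv⟩, P, r, l, sq, y, hy⟩ := exists_lift_of_finite' (I.cocomplex.d j (j + 1))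
    (W := (Over.pullback f).obj T) (pullback.fst T.hom f)
    (etExactAt_resolution I ⟨F, ⟨Iso.refl _⟩⟩ j ((Over.pullback f).obj T) _ hz) t
  let R : Over Y := Over.mk (p ≫ T.hom)
  let q' : R ⟶ T := Over.homMk p
  let m := (Over.pullback f).map q'
  let c : (Over.pullback f).obj R ⟶ P := Over.homMk (sq.lift m.left (pullback.fst R.hom f) (by
      change m.left ≫ pullback.fst T.hom f = pullback.fst R.hom f ≫ p
      exact pullback.lift_fst _ _ _)) (by
    rw [← Over.w r, ← Category.assoc, sq.lift_fst]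
    exact Over.w m)
  have hc : c ≫ r = m := Over.OverMorphism.ext (sq.lift_fst _ _ _)
  refine ⟨R, q', inferInstanceAs (Flat p), inferInstanceAs (LocallyOfFinitePresentation p), ⟨v, hv⟩,
    rs (I.cocomplex.X j) c y, sec_injective (ShortComplex.iCycles _) R ?_⟩
  rw [← ap_comp, ShortComplex.toCycles_i, ap_rs]
  change ap (I.cocomplex.d j (j + 1)) _ (rs (I.cocomplex.X j) c y) = rs (I.cocomplex.X (j + 1)) m _
  rw [← hc, ap_rs, hy, rs_rs]

/-- The comparison in degree zero and above for finite morphisms. -/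
theorem nonempty_aPull_Rpush_of_isFinite (f : X ⟶ Y) [IsFinite f] (F : EtCoh.Ab X) (i : ℕ) :
    Nonempty ((EtFppf.aPull Y).obj ((EtCoh.Rpush f i).obj F) ≅
      (EtFppf.RpushBig f i).obj ((EtFppf.aPull X).obj F)) := by
  rcases Nat.eq_zero_or_pos i with rfl | hi
  · haveI : PreservesFiniteLimits (EtFppf.pushBig f) :=
      haveI : PreservesLimitsOfSize.{0, 0} (EtFppf.pushBig f) :=
        (BigSite.bigAdj Scheme.fppfPrecoverage f AddCommGrpCat.{u + 1}).rightAdjoint_preservesLimits
      PreservesLimitsOfSize.preservesFiniteLimits _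
    haveI : PreservesFiniteLimits (EtCoh.push f) :=
      haveI : PreservesLimitsOfSize.{0, 0} (EtCoh.push f) := (EtCoh.pullPushAdj f).rightAdjoint_preservesLimits
      PreservesLimitsOfSize.preservesFiniteLimits _
    have := Et18.Fppf.isIso_descHom_pushUnit (f := f) (F := F)
    exact ⟨(EtFppf.aPull Y).mapIso ((EtCoh.push f).rightDerivedZeroIsoSelf.app F) ≪≫
      Et18.Fppf.aPullIso _ ≪≫ asIso (Et18.Fppf.descHom (Et18.Fppf.pushUnit f F)) ≪≫
      (EtFppf.pushBig f).mapIso (Et18.Fppf.aPullIso F).symm ≪≫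
      ((EtFppf.pushBig f).rightDerivedZeroIsoSelf.app _).symm⟩
  · exact ⟨IsZero.iso ((EtFppf.aPull Y).map_isZero (Et18.Rpush_isZero_of_integral f F i hi))
      (isZero_RpushBig_of_isFinite f F i hi)⟩

/-- Étale and fppf cohomology of an étale sheaf. -/
theorem nonempty_H_equiv_HF (X : Scheme.{u}) (F : EtCoh.Ab X) (n : ℕ) :
    Nonempty (EtCoh.H X F n ≃+ EtFppf.HF X ((EtFppf.aPull X).obj F) n) := by
  let adj := EtFppf.aAdj X
  let A := AddCommGrpCat.of (ULift.{u + 1} ℤ)
  haveI : (EtFppf.aPull X).Additive := adj.left_adjoint_additive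
  let e : (EtFppf.aPull X).obj ((constantSheaf X.smallEtaleTopology AddCommGrpCat.{u + 1}).obj A) ≅
      (constantSheaf (EtFppf.J X) AddCommGrpCat.{u + 1}).obj A :=
    ((((constantSheafAdj X.smallEtaleTopology AddCommGrpCat.{u + 1} (EtCore.topIsTerminal X)).comp adj).ofNatIsoRight
      (show EtFppf.aPush X ⋙ (sheafSections X.smallEtaleTopology AddCommGrpCat.{u + 1}).obj (op (EtCoh.top X)) ≅
          (sheafSections (EtFppf.J X) AddCommGrpCat.{u + 1}).obj (op (Over.mk (𝟙 X))) from
        NatIso.ofComponents (fun _ => Iso.refl _) (fun f => by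
          dsimp
          simp only [Category.comp_id, Category.id_comp]
          rfl))).leftAdjointUniq
      (constantSheafAdj (EtFppf.J X) AddCommGrpCat.{u + 1} Over.mkIdTerminal)).app A
  have h := EtCmp.bijective_adjExtHom adj ((constantSheaf X.smallEtaleTopology AddCommGrpCat.{u + 1}).obj A) n
    ((EtFppf.aPull X).obj F) (fun q hq => isZero_RaPush F q hq)
  let e₁ : EtCoh.H X F n ≃+ EtCoh.H X ((EtFppf.aPush X).obj ((EtFppf.aPull X).obj F)) n :=
    ((EtCoh.HF X n).mapIso (asIso ((EtFppf.aAdj X).unit.app F))).addCommGroupIsoToAddEquiv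
  let e' : Ext.{u + 1} ((EtFppf.aPull X).obj ((constantSheaf X.smallEtaleTopology AddCommGrpCat.{u + 1}).obj A))
      ((EtFppf.aPull X).obj F) n ≃+ EtFppf.HF X ((EtFppf.aPull X).obj F) n :=
    { toFun := fun x => (Ext.mk₀ e.inv).comp x (zero_add n)
      invFun := fun x => (Ext.mk₀ e.hom).comp x (zero_add n)
      left_inv := fun x => by
        dsimp only
        rw [Ext.mk₀_comp_mk₀_assoc, Iso.hom_inv_id, Ext.mk₀_id_comp]
      right_inv := fun x => by
        dsimp only
        rw [Ext.mk₀_comp_mk₀_assoc, Iso.inv_hom_id, Ext.mk₀_id_comp]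
      map_add' := fun x y => Ext.comp_add _ _ _ _ }
  exact ⟨e₁.trans ((AddEquiv.ofBijective _ h).trans e')⟩

end Groth.Agent.Desc19b.FppfEt
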