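import Groth.Agent.Desc19b.FppfEt.Basic
import Groth.Agent.Desc19b.SiteRes.SectEt
import Groth.Agent.Desc19b.SiteRes.FF
import Groth.Agent.Desc19b.SiteRes.Comp
import Groth.Agent.Desc19b.SiteRes.Big
import Groth.Agent.Et18.Fppf.ProperPush
import Groth.Agent.Et18.PropAFaithful

/-!
# The essential image of the inverse image on the big fppf site
-/

set_option autoImplicit false
set_option backward.isDefEq.respectTransparency.types false
set_option backward.isDefEq.respectTransparency false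
set_option linter.style.haveILetI false
set_option linter.all false
set_option synthInstance.maxHeartbeats 200000

universe u

open CategoryTheory CategoryTheory.Limits AlgebraicGeometry Opposite

namespace Groth.Agent.Desc19b.FppfEt

variable {S T : Scheme.{u}}

theorem isIso_aUnit (S : Scheme.{u}) (F : EtCoh.Ab S) : IsIso ((EtFppf.aAdj S).unit.app F) := by
  haveI : IsIso ((BigSite.piEtAdj Scheme.etalePrecoverage S).unit.app F) :=
    (SiteRes.isIso_unit_etBig S).2 F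
  have h1 : SiteRes.SectEt.sectUnit F = (BigSite.piEtAdj Scheme.etalePrecoverage S).unit.app F ≫
      (BigSite.resEt Scheme.etalePrecoverage S).map (SiteRes.SectEt.piPullSectIso F).hom := by
    exact ((BigSite.piEtAdj Scheme.etalePrecoverage S).homEquiv _ _).apply_symm_apply _ |>.symm.trans
      ((BigSite.piEtAdj Scheme.etalePrecoverage S).homEquiv_unit _ _ _)
  have h1' : IsIso (SiteRes.SectEt.sectUnit F) := by rw [h1]; exact IsIso.comp_isIso
  have h2 : IsIso (Et18.Fppf.sectUnit F) := h1'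
  have h3 : (EtFppf.aAdj S).unit.app F = Et18.Fppf.sectUnit F ≫
      (EtFppf.aPush S).map (Et18.Fppf.aPullIso F).inv := (Et18.Fppf.sectUnit_descHom _).symm
  rw [h3]
  exact IsIso.comp_isIso

instance (S : Scheme.{u}) : IsIso (EtFppf.aAdj S).unit :=
  haveI := isIso_aUnit S
  NatIso.isIso_of_isIso_app _

instance (S : Scheme.{u}) : (EtFppf.aPull S).Full := (EtFppf.aAdj S).fullyFaithfulLOfIsIsoUnit.full

instance (S : Scheme.{u}) : PreservesFiniteLimits (EtFppf.aPull S) :=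
  inferInstanceAs (PreservesFiniteLimits (BigSite.piEtPull Scheme.fppfPrecoverage S))

instance (S : Scheme.{u}) : PreservesFiniteColimits (EtFppf.aPull S) :=
  haveI : PreservesColimitsOfSize.{0, 0} (EtFppf.aPull S) := (EtFppf.aAdj S).leftAdjoint_preservesColimits
  PreservesColimitsOfSize.preservesFiniteColimits _

instance (S : Scheme.{u}) : (EtFppf.aPull S).Additive := (EtFppf.aAdj S).left_adjoint_additive

/-- Restriction to small sites commutes with direct image on the fppf sites. -/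
noncomputable def pushResIsoF (f : T ⟶ S) :
    EtFppf.pushBig f ⋙ EtFppf.aPush S ≅ EtFppf.aPush T ⋙ EtCoh.push f :=
  haveI : (EtFppf.a S ⋙ Over.pullback f).IsContinuous S.smallEtaleTopology (EtFppf.J T) :=
    Functor.isContinuous_comp (EtFppf.a S) (Over.pullback f) _ (EtFppf.J S) _
  haveI : (EtCoh.bc f ⋙ EtFppf.a T).IsContinuous S.smallEtaleTopology (EtFppf.J T) :=
    Functor.isContinuous_comp (EtCoh.bc f) (EtFppf.a T) _ T.smallEtaleTopology _
  Functor.sheafPushforwardContinuousComp' (Iso.refl (EtFppf.a S ⋙ Over.pullback f)) AddCommGrpCat.{u + 1}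
      S.smallEtaleTopology (EtFppf.J S) (EtFppf.J T) ≪≫
    (Functor.sheafPushforwardContinuousComp' (SiteRes.aPullbackIso f).symm AddCommGrpCat.{u + 1}
      S.smallEtaleTopology T.smallEtaleTopology (EtFppf.J T)).symm

/-- Base change on the big fppf sites. -/
noncomputable abbrev pullBigF (f : T ⟶ S) : EtFppf.AbF S ⥤ EtFppf.AbF T :=
  BigSite.pullBig Scheme.fppfPrecoverage f AddCommGrpCat.{u + 1}

/-- Inverse images commute with base change. -/
noncomputable def aPullBaseIso (f : T ⟶ S) :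
    EtFppf.aPull S ⋙ pullBigF f ≅ EtCoh.pull f ⋙ EtFppf.aPull T :=
  (((EtFppf.aAdj S).comp (BigSite.bigAdj Scheme.fppfPrecoverage f AddCommGrpCat.{u + 1})).ofNatIsoRight
      (pushResIsoF f)).leftAdjointUniq ((EtCoh.pullPushAdj f).comp (EtFppf.aAdj T))

/-- Sheaves coming from the small étale site. -/
def IsEt (M : EtFppf.AbF S) : Prop := ∃ F : EtCoh.Ab S, Nonempty ((EtFppf.aPull S).obj F ≅ M)

theorem IsEt.of_iso {M N : EtFppf.AbF S} (h : IsEt M) (e : M ≅ N) : IsEt N := by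
  obtain ⟨F, ⟨i⟩⟩ := h
  exact ⟨F, ⟨i ≪≫ e⟩⟩

theorem IsEt.pullBig {M : EtFppf.AbF S} (h : IsEt M) (f : T ⟶ S) : IsEt ((pullBigF f).obj M) := by
  obtain ⟨F, ⟨i⟩⟩ := h
  exact ⟨(EtCoh.pull f).obj F, ⟨((aPullBaseIso f).app F).symm ≪≫ (pullBigF f).mapIso i⟩⟩

theorem IsEt.pushBig {M : EtFppf.AbF T} (h : IsEt M) (f : T ⟶ S) [IsProper f] :
    IsEt ((EtFppf.pushBig f).obj M) := by
  obtain ⟨F, ⟨i⟩⟩ := h
  have := Et18.Fppf.isIso_descHom_pushUnit (f := f) (F := F)
  exact ⟨(EtCoh.push f).obj F, ⟨Et18.Fppf.aPullIso _ ≪≫ asIso (Et18.Fppf.descHom (Et18.Fppf.pushUnit f F)) ≪≫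
    (EtFppf.pushBig f).mapIso (Et18.Fppf.aPullIso F).symm ≪≫ (EtFppf.pushBig f).mapIso i⟩⟩

theorem IsEt.cokernel {M N : EtFppf.AbF S} (hM : IsEt M) (hN : IsEt N) (φ : M ⟶ N) : IsEt (cokernel φ) := by
  obtain ⟨F, ⟨i⟩⟩ := hM
  obtain ⟨G, ⟨j⟩⟩ := hN
  obtain ⟨ψ, hψ⟩ := (EtFppf.aPull S).map_surjective (i.hom ≫ φ ≫ j.inv)
  refine ⟨Limits.cokernel ψ, ⟨(PreservesCokernel.iso (EtFppf.aPull S) ψ) ≪≫ cokernel.mapIso _ _ i j ?_⟩⟩
  rw [hψ]; simp

/-- Restriction to the small site of an object. -/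
noncomputable abbrev resAlong (f : T ⟶ S) : EtFppf.AbF S ⥤ EtCoh.Ab T := pullBigF f ⋙ EtFppf.aPush T

/-- Restrictions of inverse images. -/
noncomputable def resAlongPullIso (f : T ⟶ S) : EtFppf.aPull S ⋙ resAlong f ≅ EtCoh.pull f :=
  (Functor.associator _ _ _).symm ≪≫ Functor.isoWhiskerRight (aPullBaseIso f) _ ≪≫
    Functor.associator _ _ _ ≪≫ Functor.isoWhiskerLeft _ (asIso (EtFppf.aAdj T).unit).symm ≪≫
    Functor.rightUnitor _

theorem IsEt.epi_resAlong {M N : EtFppf.AbF S} (hM : IsEt M) (hN : IsEt N) (φ : M ⟶ N) [Epi φ] (f : T ⟶ S) :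
    Epi ((resAlong f).map φ) := by
  obtain ⟨F, ⟨i⟩⟩ := hM
  obtain ⟨G, ⟨j⟩⟩ := hN
  obtain ⟨ψ, hψ⟩ := (EtFppf.aPull S).map_surjective (i.hom ≫ φ ≫ j.inv)
  haveI : (EtFppf.aPull S).Faithful := (EtFppf.aAdj S).fullyFaithfulLOfIsIsoUnit.faithful
  haveI : Epi ψ := (EtFppf.aPull S).epi_of_epi_map (by rw [hψ]; infer_instance)
  haveI : (EtCoh.pull f).PreservesEpimorphisms :=
    Functor.preservesEpimorphisms_of_adjunction (EtCoh.pullPushAdj f)
  haveI : Epi ((resAlong f).map ((EtFppf.aPull S).map ψ)) := by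
    rw [show (resAlong f).map ((EtFppf.aPull S).map ψ) = (EtFppf.aPull S ⋙ resAlong f).map ψ from rfl,
      ← NatIso.naturality_2 (resAlongPullIso f) ψ]
    infer_instance
  rw [show φ = i.inv ≫ (EtFppf.aPull S).map ψ ≫ j.hom by rw [hψ]; simp]
  simp only [Functor.map_comp]
  infer_instance

theorem IsEt.etLift_of_epi {M N : EtFppf.AbF S} (hM : IsEt M) (hN : IsEt N) (φ : M ⟶ N) [Epi φ]
    {W : Over S} (x : Sec N W) : EtLift φ x := by
  haveI := hM.epi_resAlong hN φ W.hom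
  haveI : Sheaf.IsLocallySurjective ((resAlong W.hom).map φ) :=
    (Sheaf.isLocallySurjective_iff_epi' (A := AddCommGrpCat.{u + 1}) _).2 inferInstance
  let w : (Over.map W.hom).obj ((EtFppf.a W.left).obj (EtCoh.top W.left)) ⟶ W := Over.homMk (𝟙 _) (by
    show 𝟙 W.left ≫ W.hom = 𝟙 W.left ≫ W.hom
    rfl)
  let x' : ToType (((resAlong W.hom).obj N).obj.obj (op (EtCoh.top W.left))) := rs N w x
  have hS := Presheaf.imageSieve_mem W.left.smallEtaleTopology ((resAlong W.hom).map φ).hom x'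
  intro t
  have key : ∀ {U : W.left.Etale} (g : U ⟶ EtCoh.top W.left) (u' : U.left), g.left u' = t →
      Presheaf.imageSieve ((resAlong W.hom).map φ).hom x' g →
      ∃ (R : Over S) (q : R ⟶ W), Etale q.left ∧ t ∈ Set.range q.left ∧
        ∃ y : Sec M R, ap φ R y = rs N q x := fun {U} g u' hu hi => by
    obtain ⟨y, hy⟩ := hi
    haveI := Et18.etale_map_left g
    exact ⟨(Over.map W.hom).obj ((EtFppf.a W.left).obj U), (Over.map W.hom).map ((EtFppf.a W.left).map g) ≫ w,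
      inferInstanceAs (Etale (g.left ≫ 𝟙 _)), ⟨u', hu⟩, y, hy.trans (rs_rs N _ w x)⟩
  obtain ⟨𝒰, _, _, hU⟩ := (Scheme.mem_smallGrothendieckTopology _ _).1 hS
  obtain ⟨i, u', hu⟩ := ((Scheme.ofArrows_mem_precoverage_iff _).1 𝒰.mem₀).1 t
  exact key _ u' hu (hU _ _ ⟨i⟩)

end Groth.Agent.Desc19b.FppfEt
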