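import Groth.Agent.Desc19b.FppfEt.EssImage

/-!
# Classes of étale sheaves on the big fppf site die étale locally
-/

set_option autoImplicit false
set_option backward.isDefEq.respectTransparency.types false
set_option backward.isDefEq.respectTransparency false
set_option linter.style.haveILetI false
set_option linter.all false
set_option synthInstance.maxHeartbeats 200000

universe u

open CategoryTheory CategoryTheory.Limits AlgebraicGeometry Opposite

namespace Groth.Agent.Desc19b.FppfEt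

variable {X Y : Scheme.{u}}

theorem ap_add {A B : EtFppf.AbF X} (φ : A ⟶ B) (T : Over X) (x y : Sec A T) :
    ap φ T (x + y) = ap φ T x + ap φ T y := map_add _ _ _

theorem ap_sub {A B : EtFppf.AbF X} (φ : A ⟶ B) (T : Over X) (x y : Sec A T) :
    ap φ T (x - y) = ap φ T x - ap φ T y := map_sub _ _ _

theorem rs_sub (A : EtFppf.AbF X) {R T : Over X} (q : R ⟶ T) (x y : Sec A T) :
    rs A q (x - y) = rs A q x - rs A q y := map_sub _ _ _

theorem ap_zero {A B : EtFppf.AbF X} (φ : A ⟶ B) (T : Over X) : ap φ T 0 = 0 := map_zero _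

theorem ap_of_zero {A B : EtFppf.AbF X} (T : Over X) (x : Sec A T) : ap (0 : A ⟶ B) T x = 0 := rfl

theorem exists_kernel_sec {A B : EtFppf.AbF X} (φ : A ⟶ B) (T : Over X) (x : Sec A T) (hx : ap φ T x = 0) :
    ∃ z : Sec (kernel φ) T, ap (kernel.ι φ) T z = x := by
  let F := (sheafSections (EtFppf.J X) AddCommGrpCat.{u + 1}).obj (op T)
  haveI : PreservesFiniteLimits F :=
    inferInstanceAs (PreservesFiniteLimits (sheafToPresheaf (EtFppf.J X) AddCommGrpCat.{u + 1} ⋙
      (evaluation (Over X)ᵒᵖ AddCommGrpCat.{u + 1}).obj (op T)))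
  haveI : F.PreservesZeroMorphisms := ⟨fun _ _ => rfl⟩
  let S' := (ShortComplex.mk (kernel.ι φ) φ (kernel.condition φ)).map F
  have h : S'.Exact := ((ShortComplex.exact_and_mono_f_iff_f_is_kernel S').2
    ⟨KernelFork.mapIsLimit _ (kernelIsKernel φ) F⟩).1
  exact (ShortComplex.ab_exact_iff S').1 h x hx

theorem epi_of_fppfLift {A B : EtFppf.AbF X} (φ : A ⟶ B) (h : ∀ (T : Over X) (x : Sec B T), FppfLift φ x) :
    Epi φ := by
  haveI : Sheaf.IsLocallySurjective φ := ⟨fun {T} x => by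
    choose R q hf hp ht y hy using h T x
    refine (EtFppf.J X).superset_covering ?_ (mem_J_of_fppf (fun t : ULift.{u + 1} T.left => R t.down)
      (fun t => q t.down) (fun t => hf t.down) (fun t => hp t.down) (fun t => ⟨⟨t⟩, ht t⟩))
    rw [Sieve.generate_le_iff]
    rintro Z f ⟨t⟩
    exact ⟨y t.down, hy t.down⟩⟩
  exact Sheaf.epi_of_isLocallySurjective _

theorem sec_injective {A B : EtFppf.AbF X} (φ : A ⟶ B) [Mono φ] (T : Over X) :
    Function.Injective (ap φ T) := by
  haveI : Mono φ.hom := inferInstanceAs (Mono ((sheafToPresheaf _ _).map φ))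
  exact (AddCommGrpCat.mono_iff_injective _).1 (inferInstanceAs (Mono (φ.hom.app (op T))))

/-- Exactness in positive degrees `≤ q`. -/
def ExactUpTo (C : CochainComplex (EtFppf.AbF X) ℕ) (q : ℕ) : Prop :=
  ∀ j < q, FppfExactAt (C.d j (j + 1)) (C.d (j + 1) (j + 2))

/-- The induction statement. -/
def Kills (q : ℕ) : Prop :=
  ∀ (X : Scheme.{u}) (C : CochainComplex (EtFppf.AbF X) ℕ), (∀ n, Injective (C.X n)) →
    IsEt (kernel (C.d 0 1)) → ExactUpTo C (q + 1) → EtExactAt (C.d q (q + 1)) (C.d (q + 1) (q + 2))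

/-- The base change of a complex. -/
noncomputable abbrev pullC (j : Y ⟶ X) (C : CochainComplex (EtFppf.AbF X) ℕ) :
    CochainComplex (EtFppf.AbF Y) ℕ :=
  ((pullBigF j).mapHomologicalComplex (ComplexShape.up ℕ)).obj C

theorem exactUpTo_pullC (j : Y ⟶ X) {C : CochainComplex (EtFppf.AbF X) ℕ} {q : ℕ} (h : ExactUpTo C q) :
    ExactUpTo (pullC j C) q := by
  intro i hi R x hx t
  obtain ⟨P, r, hr, hr', ⟨z, hz⟩, y, hy⟩ := h i hi ((Over.map j).obj R) x hx t
  let R' : Over Y := Over.mk (r.left ≫ R.hom)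
  let r' : R' ⟶ R := Over.homMk r.left
  let c : (Over.map j).obj R' ⟶ P := Over.homMk (𝟙 P.left) (by
    change 𝟙 P.left ≫ P.hom = (r.left ≫ R.hom) ≫ j
    rw [Category.id_comp, Category.assoc]
    exact (Over.w r).symm)
  have hc : (Over.map j).map r' = c ≫ r := Over.OverMorphism.ext (Category.id_comp _).symm
  refine ⟨R', r', hr, hr', ⟨z, hz⟩, rs (C.X i) c y, ?_⟩
  change ap (C.d i (i + 1)) _ (rs (C.X i) c y) = rs (C.X (i + 1)) ((Over.map j).map r') x
  rw [hc, ap_rs, hy, rs_rs]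

theorem isEt_kernel_pullC (j : Y ⟶ X) {C : CochainComplex (EtFppf.AbF X) ℕ} (h : IsEt (kernel (C.d 0 1))) :
    IsEt (kernel ((pullC j C).d 0 1)) :=
  (h.pullBig j).of_iso (PreservesKernel.iso (pullBigF j) (C.d 0 1))

section Step

variable {V : Scheme.{u}} (π : V ⟶ X) (C : CochainComplex (EtFppf.AbF X) ℕ)

/-- The object over which the sections of the direct image complex are taken. -/
noncomputable abbrev wOb (T : Over X) : Over X := (Over.map π).obj ((Over.pullback π).obj T)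

/-- Its projection. -/
noncomputable abbrev wPr (T : Over X) : wOb π T ⟶ T := (Over.mapPullbackAdj π).counit.app T

/-- The direct image of the base change. -/
noncomputable abbrev kC : CochainComplex (EtFppf.AbF X) ℕ :=
  ((pullBigF π ⋙ EtFppf.pushBig π).mapHomologicalComplex (ComplexShape.up ℕ)).obj C

/-- The unit. -/
noncomputable def η (n : ℕ) : C.X n ⟶ (kC π C).X n :=
  (BigSite.bigAdj Scheme.fppfPrecoverage π AddCommGrpCat.{u + 1}).unit.app (C.X n)

theorem η_app (n : ℕ) (T : Over X) (x : Sec (C.X n) T) :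
    (ap (η π C n) T x : Sec (C.X n) (wOb π T)) = rs (C.X n) (wPr π T) x := rfl

theorem η_comm (n m : ℕ) : η π C n ≫ (kC π C).d n m = C.d n m ≫ η π C m :=
  ((BigSite.bigAdj Scheme.fppfPrecoverage π AddCommGrpCat.{u + 1}).unit.naturality (C.d n m)).symm

theorem η_d (n m : ℕ) (T : Over X) (x : Sec (C.X n) T) :
    ap ((kC π C).d n m) T (ap (η π C n) T x) = ap (η π C m) T (ap (C.d n m) T x) := by
  rw [← ap_comp, η_comm, ap_comp]

variable [IsFinite π] [Flat π] [LocallyOfFinitePresentation π] [Surjective π]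

instance mono_η (n : ℕ) : Mono (η π C n) := by
  haveI : ∀ T : (Over X)ᵒᵖ, Mono ((η π C n).hom.app T) := fun T => by
    refine (AddCommGrpCat.mono_iff_injective _).2 fun x y hxy => ?_
    haveI : Flat (wPr π T.unop).left :=
      inferInstanceAs (Flat (pullback.fst T.unop.hom π))
    haveI : LocallyOfFinitePresentation (wPr π T.unop).left :=
      inferInstanceAs (LocallyOfFinitePresentation (pullback.fst T.unop.hom π))
    haveI : Surjective (wPr π T.unop).left := inferInstanceAs (Surjective (pullback.fst T.unop.hom π))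
    refine ext_of_fppf (C.X n) (fun k : PUnit.{u + 2} => wOb π T.unop) (fun k => wPr π T.unop)
      (fun k => inferInstance) (fun k => inferInstance)
      (fun t => ⟨⟨⟩, (wPr π T.unop).left.surjective t⟩) x y fun k => hxy
  haveI : Mono (η π C n).hom := NatTrans.mono_of_mono_app _
  exact (sheafToPresheaf _ _).mono_of_mono_map (inferInstanceAs (Mono (η π C n).hom))

theorem etExactAt_kC {j : ℕ} (h : EtExactAt (C.d j (j + 1)) (C.d (j + 1) (j + 2))) :
    EtExactAt ((kC π C).d j (j + 1)) ((kC π C).d (j + 1) (j + 2)) := by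
  intro T z hz t
  haveI : IsFinite (wPr π T).left := inferInstanceAs (IsFinite (pullback.fst T.hom π))
  obtain ⟨R, q, hq, ht, P, r, l, sq, hcomm, y, hy⟩ :=
    exists_lift_of_finite (C.d j (j + 1)) (wPr π T) (h (wOb π T) z hz) t
  let m : wOb π R ⟶ wOb π T := (Over.map π).map ((Over.pullback π).map q)
  have hm : m ≫ wPr π T = wPr π R ≫ q := (Over.mapPullbackAdj π).counit.naturality q
  let c : wOb π R ⟶ P := Over.homMk (sq.lift m.left (wPr π R).left (congrArg (fun e => e.left) hm)) (by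
    rw [← Over.w r, ← Category.assoc, sq.lift_fst]
    exact Over.w m)
  have hc : c ≫ r = m := Over.OverMorphism.ext (sq.lift_fst _ _ _)
  refine ⟨R, q, hq, ht, rs (C.X j) c y, ?_⟩
  change ap (C.d j (j + 1)) _ (rs (C.X j) c y) = rs (C.X (j + 1)) m z
  rw [← hc, ap_rs, hy, rs_rs]

variable [hC : ∀ n, Injective (C.X n)]

/-- The retraction. -/
noncomputable def ret (n : ℕ) : (kC π C).X n ⟶ C.X n := Injective.factorThru (𝟙 _) (η π C n)

theorem η_ret (n : ℕ) : η π C n ≫ ret π C n = 𝟙 _ := Injective.comp_factorThru _ _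

/-- The quotient complex. -/
noncomputable def qC : CochainComplex (EtFppf.AbF X) ℕ :=
  CochainComplex.of (fun n => cokernel (η π C n))
    (fun n => cokernel.map _ _ (C.d n (n + 1)) ((kC π C).d n (n + 1)) (η_comm π C n (n + 1)))
    (fun n => coequalizer.hom_ext (by
      rw [cokernel.π_desc_assoc, Category.assoc, cokernel.π_desc, ← Category.assoc, HomologicalComplex.d_comp_d,
        zero_comp, comp_zero]))

/-- The projection. -/
noncomputable abbrev pr (n : ℕ) : (kC π C).X n ⟶ (qC π C).X n := cokernel.π (η π C n)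

theorem pr_comm (n : ℕ) : pr π C n ≫ (qC π C).d n (n + 1) = (kC π C).d n (n + 1) ≫ pr π C (n + 1) := by
  unfold qC pr
  simp [CochainComplex.of, CochainComplex.of.d]

/-- The section of the projection. -/
noncomputable def sec (n : ℕ) : (qC π C).X n ⟶ (kC π C).X n :=
  cokernel.desc (η π C n) (𝟙 _ - ret π C n ≫ η π C n) (by
    rw [Preadditive.comp_sub, ← Category.assoc, η_ret, Category.id_comp, Category.comp_id, sub_self])

theorem sec_pr (n : ℕ) : sec π C n ≫ pr π C n = 𝟙 _ := by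
  refine (cancel_epi (pr π C n)).1 ?_
  rw [← Category.assoc]
  simp [sec, pr, Preadditive.sub_comp]

theorem injective_qC (n : ℕ) : Injective ((qC π C).X n) := by
  haveI := hC n
  haveI : PreservesFiniteLimits (pullBigF π) := SiteRes.preservesFiniteLimits_pullBig Scheme.fppfPrecoverage π
  haveI : Injective ((pullBigF π).obj (C.X n)) :=
    (SiteRes.preservesInjectiveObjects_pullBig Scheme.fppfPrecoverage π).injective_obj inferInstance
  haveI : Injective ((kC π C).X n) :=
    Injective.injective_of_adjoint (BigSite.bigAdj Scheme.fppfPrecoverage π AddCommGrpCat.{u + 1})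
      ((pullBigF π).obj (C.X n))
  refine ⟨fun g f _ => ⟨Injective.factorThru (g ≫ sec π C n) f ≫ pr π C n, ?_⟩⟩
  rw [← Category.assoc, Injective.comp_factorThru, Category.assoc, sec_pr, Category.comp_id]

theorem ap_pr_η (n : ℕ) (T : Over X) (x : Sec (C.X n) T) : ap (pr π C n) T (ap (η π C n) T x) = 0 := by
  rw [← ap_comp, cokernel.condition]
  rfl

theorem ap_pr_sec (n : ℕ) (T : Over X) (w : Sec ((qC π C).X n) T) : ap (pr π C n) T (ap (sec π C n) T w) = w := by
  rw [← ap_comp, sec_pr]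
  rfl

theorem exists_of_pr_eq_zero (n : ℕ) (T : Over X) (z : Sec ((kC π C).X n) T) (hz : ap (pr π C n) T z = 0) :
    ∃ a : Sec (C.X n) T, ap (η π C n) T a = z := by
  refine ⟨ap (ret π C n) T z, ?_⟩
  have h : ap (pr π C n ≫ sec π C n) T z = z - ap (η π C n) T (ap (ret π C n) T z) := by
    rw [show pr π C n ≫ sec π C n = 𝟙 _ - ret π C n ≫ η π C n from cokernel.π_desc _ _ _]
    rfl
  rw [ap_comp, hz, ap_zero] at h
  exact (sub_eq_zero.1 h.symm).symm

theorem ap_qd (n : ℕ) (T : Over X) (z : Sec ((kC π C).X n) T) :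
    ap ((qC π C).d n (n + 1)) T (ap (pr π C n) T z) = ap (pr π C (n + 1)) T (ap ((kC π C).d n (n + 1)) T z) := by
  rw [← ap_comp, pr_comm, ap_comp]

theorem exactUpTo_qC {q : ℕ} (hq : ExactUpTo C (q + 1))
    (hk : ∀ j < q, FppfExactAt ((kC π C).d j (j + 1)) ((kC π C).d (j + 1) (j + 2))) :
    ExactUpTo (qC π C) q := by
  intro j hj T w hw
  let z := ap (sec π C (j + 1)) T w
  have hz : ap (pr π C (j + 1)) T z = w := ap_pr_sec π C _ T w
  obtain ⟨a, ha⟩ := exists_of_pr_eq_zero π C (j + 2) T (ap ((kC π C).d (j + 1) (j + 2)) T z)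
    (by rw [← ap_qd, hz]; exact hw)
  have hda : ap (C.d (j + 2) (j + 3)) T a = 0 := by
    refine sec_injective (η π C (j + 3)) T ?_
    rw [← η_d, ha, ← ap_comp, HomologicalComplex.d_comp_d, ap_zero]
    rfl
  refine FppfLift.trans fun t => ?_
  obtain ⟨R, q₁, hf, hp, ht, b, hb⟩ := hq (j + 1) (by omega) T a hda t
  refine ⟨R, q₁, hf, hp, ht, ?_⟩
  have hcoc : ap ((kC π C).d (j + 1) (j + 2)) R (rs _ q₁ z - ap (η π C (j + 1)) R b) = 0 := by
    rw [ap_sub, ap_rs, η_d, hb, ap_rs, ha, sub_self]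
  intro r
  obtain ⟨P, q₂, hf₂, hp₂, hr, c, hc⟩ := hk j hj R _ hcoc r
  refine ⟨P, q₂, hf₂, hp₂, hr, ap (pr π C j) P c, ?_⟩
  rw [ap_qd, hc, ap_rs, ap_sub, ap_pr_η, sub_zero, ap_rs, hz]

/-- The map on cocycles of degree zero. -/
noncomputable def zMap : kernel (C.d 0 1) ⟶ kernel ((kC π C).d 0 1) :=
  kernel.map _ _ (η π C 0) (η π C 1) (η_comm π C 0 1).symm

/-- The map on cocycles of degree zero to the quotient. -/
noncomputable def zPr : kernel ((kC π C).d 0 1) ⟶ kernel ((qC π C).d 0 1) :=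
  kernel.map _ _ (pr π C 0) (pr π C 1) (pr_comm π C 0).symm

theorem epi_zPr (hq : ExactUpTo C 1) : Epi (zPr π C) := by
  refine epi_of_fppfLift _ fun T w => ?_
  let z := ap (sec π C 0) T (ap (kernel.ι _) T w)
  have hz : ap (pr π C 0) T z = ap (kernel.ι _) T w := ap_pr_sec π C _ T _
  obtain ⟨a, ha⟩ := exists_of_pr_eq_zero π C 1 T (ap ((kC π C).d 0 1) T z) (by
    rw [← ap_qd, hz, ← ap_comp, kernel.condition]; rfl)
  have hda : ap (C.d 1 2) T a = 0 := by
    refine sec_injective (η π C 2) T ?_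
    rw [← η_d, ha, ← ap_comp, HomologicalComplex.d_comp_d, ap_zero]
    rfl
  intro t
  obtain ⟨R, q, hf, hp, ht, b, hb⟩ := hq 0 Nat.one_pos T a hda t
  obtain ⟨y, hy⟩ := exists_kernel_sec ((kC π C).d 0 1) R (rs _ q z - ap (η π C 0) R b) (by
    rw [ap_sub, ap_rs, η_d, hb, ap_rs, ha, sub_self])
  refine ⟨R, q, hf, hp, ht, y, sec_injective (kernel.ι _) R ?_⟩
  rw [← ap_comp, zPr, kernel.lift_ι, ap_comp, hy, ap_sub, ap_pr_η, sub_zero, ap_rs, hz, ap_rs]

theorem isEt_kernel_qC (hq : ExactUpTo C 1) (h : IsEt (kernel (C.d 0 1))) : IsEt (kernel ((qC π C).d 0 1)) := by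
  haveI := epi_zPr π C hq
  have w : zMap π C ≫ zPr π C = 0 := by
    refine (cancel_mono (kernel.ι _)).1 ?_
    simp [zMap, zPr]
  let S := ShortComplex.mk (zMap π C) (zPr π C) w
  haveI : Mono (zMap π C) := by
    haveI : Mono (zMap π C ≫ kernel.ι _) := by
      rw [zMap, kernel.lift_ι]
      infer_instance
    exact mono_of_mono (zMap π C) (kernel.ι _)
  have hk : IsLimit (KernelFork.ofι S.f S.zero) := KernelFork.IsLimit.ofι' _ _ fun {W} m hm => by
    have h1 : (m ≫ kernel.ι _) ≫ cokernel.π (η π C 0) = 0 := by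
      have := congrArg (· ≫ kernel.ι _) hm
      simpa [S, zPr] using this
    let l := Abelian.monoLift (η π C 0) (m ≫ kernel.ι _) h1
    have hl : l ≫ η π C 0 = m ≫ kernel.ι _ := Abelian.monoLift_comp _ _ _
    refine ⟨kernel.lift _ l ((cancel_mono (η π C 1)).1 ?_), (cancel_mono (kernel.ι _)).1 ?_⟩
    · rw [Category.assoc, ← η_comm, ← Category.assoc, hl, Category.assoc, kernel.condition, comp_zero, zero_comp]
    · simp [S, zMap, hl]
  have hS : S.Exact := ShortComplex.exact_of_f_is_kernel _ hk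
  haveI : Epi S.g := ‹Epi (zPr π C)›
  refine (h.cokernel ((h.pullBig π).pushBig π |>.of_iso
    (PreservesKernel.iso (pullBigF π ⋙ EtFppf.pushBig π) (C.d 0 1))) (zMap π C)).of_iso ?_
  exact (cokernelIsCokernel S.f).coconePointUniqueUpToIso hS.gIsCokernel

theorem step {q : ℕ} (hIH : ∀ j < q, Kills.{u} j) (h0 : IsEt (kernel (C.d 0 1))) (hq : ExactUpTo C (q + 1))
    (x : Sec (C.X (q + 1)) (Over.mk (𝟙 X))) (y : Sec (C.X q) (Over.mk π))
    (hy : ap (C.d q (q + 1)) _ y = rs (C.X (q + 1)) (Over.homMk π (Category.comp_id π)) x) :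
    EtLift (C.d q (q + 1)) x := by
  have hk : ∀ j < q, FppfExactAt ((kC π C).d j (j + 1)) ((kC π C).d (j + 1) (j + 2)) := fun j hj T z hz =>
    (etExactAt_kC π C (hIH j hj X C hC h0 (fun i hi => hq i (by omega))) T z hz).fppfLift
  let T₀ : Over X := Over.mk (𝟙 X)
  let v : wOb π T₀ ⟶ Over.mk π := Over.homMk ((Over.pullback π).obj T₀).hom
  let yy : Sec ((kC π C).X q) T₀ := rs (C.X q) v y
  have hyy : ap ((kC π C).d q (q + 1)) T₀ yy = ap (η π C (q + 1)) T₀ x := by
    change ap (C.d q (q + 1)) _ (rs (C.X q) v y) = rs (C.X (q + 1)) (wPr π T₀) x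
    rw [ap_rs, hy, rs_rs]
    refine congrArg (fun e => rs (C.X (q + 1)) e x) (Over.OverMorphism.ext ?_)
    have h1 := Over.w (v ≫ (Over.homMk π (Category.comp_id π) : Over.mk π ⟶ T₀))
    have h2 := Over.w (wPr π T₀)
    exact (Category.comp_id _).symm.trans (h1.trans (h2.symm.trans (Category.comp_id _)))
  let w := ap (pr π C q) T₀ yy
  have hw : ap ((qC π C).d q (q + 1)) T₀ w = 0 := by rw [ap_qd, hyy, ap_pr_η]
  have conclude : ∀ (R : Over X) (r : R ⟶ T₀) (z : Sec ((kC π C).X q) R),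
      ap ((kC π C).d q (q + 1)) R z = 0 → ap (pr π C q) R z = rs _ r w →
      ∃ b, ap (C.d q (q + 1)) R b = rs _ r x := fun R r z hz hpz => by
    obtain ⟨b, hb⟩ := exists_of_pr_eq_zero π C q R (rs _ r yy - z) (by
      rw [ap_sub, ap_rs, hpz, sub_self])
    refine ⟨b, sec_injective (η π C (q + 1)) R ?_⟩
    rw [← η_d, hb, ap_sub, hz, sub_zero, ap_rs, hyy, ap_rs]
  intro t
  cases q with
  | zero =>
    obtain ⟨w', hw'⟩ := exists_kernel_sec ((qC π C).d 0 1) T₀ w hw
    haveI := epi_zPr π C hq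
    have hK : IsEt (kernel ((kC π C).d 0 1)) := (h0.pullBig π).pushBig π |>.of_iso
      (PreservesKernel.iso (pullBigF π ⋙ EtFppf.pushBig π) (C.d 0 1))
    obtain ⟨R, r, hr, ht, z', hz'⟩ := hK.etLift_of_epi (isEt_kernel_qC π C hq h0) (zPr π C) w' t
    refine ⟨R, r, hr, ht, conclude R r (ap (kernel.ι _) R z') (by rw [← ap_comp, kernel.condition]; rfl) ?_⟩
    rw [← ap_comp, show kernel.ι _ ≫ pr π C 0 = zPr π C ≫ kernel.ι _ from (kernel.lift_ι _ _ _).symm, ap_comp,
      hz', ap_rs, hw']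
  | succ p =>
    obtain ⟨R, r, hr, ht, c, hc⟩ := hIH p (by omega) X (qC π C) (injective_qC π C)
      (isEt_kernel_qC π C (fun i hi => hq i (by omega)) h0) (exactUpTo_qC π C hq hk) T₀ w hw t
    refine ⟨R, r, hr, ht, conclude R r (ap ((kC π C).d p (p + 1)) R (ap (sec π C p) R c)) ?_ ?_⟩
    · rw [← ap_comp, HomologicalComplex.d_comp_d]; rfl
    · rw [← ap_qd, ap_pr_sec, hc]

end Step

theorem kills (q : ℕ) : Kills.{u} q := by
  induction q using Nat.strong_induction_on with
  | _ q IH =>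
  intro X C hC h0 hq T x hx
  refine EtLift.trans fun t => ?_
  obtain ⟨R, g, hgf, hgp, ⟨s, hs⟩, y, hy⟩ := hq q (by omega) T x hx t
  obtain ⟨S', V, e, π, he, hte, hπs, hπf, hπfl, hπp, r, hr⟩ :=
    FlatMor12.exists_etale_finite_slice g.left t s hs
  let T' : Over X := Over.mk (e ≫ T.hom)
  let e' : T' ⟶ T := Over.homMk e
  refine ⟨T', e', he, hte, ?_⟩
  let j := T'.hom
  have hI : ∀ n, Injective ((pullC j C).X n) := fun n =>
    (SiteRes.preservesInjectiveObjects_pullBig Scheme.fppfPrecoverage j).injective_obj (hC n)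
  let w : (Over.map j).obj (Over.mk (𝟙 S')) ⟶ T' := Over.homMk (𝟙 S') (by
    change 𝟙 S' ≫ T'.hom = 𝟙 S' ≫ j
    rfl)
  let v : (Over.map j).obj (Over.mk π) ⟶ R := Over.homMk r (by
    change r ≫ R.hom = π ≫ e ≫ T.hom
    rw [← Over.w g, ← Category.assoc, hr, Category.assoc])
  have hv : v ≫ g = (Over.map j).map (Over.homMk π (Category.comp_id π) : Over.mk π ⟶ Over.mk (𝟙 S')) ≫
      (w ≫ e') := Over.OverMorphism.ext (by
    change r ≫ g.left = π ≫ 𝟙 S' ≫ e
    rw [Category.id_comp, hr])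
  have hstep := step (hC := hI) π (pullC j C) (q := q) IH (isEt_kernel_pullC j h0) (exactUpTo_pullC j hq)
    (rs (C.X (q + 1)) (w ≫ e') x) (rs (C.X q) v y) (by
      change ap (C.d q (q + 1)) _ (rs (C.X q) v y) = rs (C.X (q + 1)) _ (rs (C.X (q + 1)) (w ≫ e') x)
      rw [ap_rs, hy, rs_rs, rs_rs, hv]
      rfl)
  intro t'
  obtain ⟨P, p, hp, ⟨z, hz⟩, b, hb⟩ := hstep t'
  refine ⟨(Over.map j).obj P, (Over.map j).map p ≫ w, inferInstanceAs (Etale (p.left ≫ 𝟙 _)), ⟨z, hz⟩, b, ?_⟩
  refine hb.trans ?_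
  change rs (C.X (q + 1)) ((Over.map j).map p) (rs (C.X (q + 1)) (w ≫ e') x) = _
  rw [rs_rs, rs_rs, Category.assoc]

end Groth.Agent.Desc19b.FppfEt
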